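import Groth.Agent.L09.LfpEt.Sheaf
import Groth.Agent.L09.LfpFppf.Apply

/-!
# Limit preservation and etale sheafification
-/

universe u

open CategoryTheory CategoryTheory.Limits AlgebraicGeometry Opposite AlgSp

set_option autoImplicit false
set_option linter.style.haveILetI false
set_option linter.unusedSectionVars false
set_option backward.isDefEq.respectTransparency false
set_option backward.isDefEq.respectTransparency.types false

noncomputable section

namespace Groth.L09.LfpEt

open Groth.L23
open Groth.L09.LfpFppf (one toOne one_subsingleton lifts_seps_of_lp lp_of_lifts_seps)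

variable {S : Scheme.{u}}

theorem isSheaf_one : Presheaf.IsSheaf (QuotSh.J Scheme.etalePrecoverage S) (one S) := by
  rw [isSheaf_iff_isSheaf_of_type]
  intro X R _ x _
  exact ⟨PUnit.unit, fun _ _ _ => one_subsingleton _ _, fun _ _ => one_subsingleton _ _⟩

theorem isLimitPreserving_sheafify (F : PSp S) (hF : IsLimitPreserving F) :
    IsLimitPreserving (sheafify (QuotSh.J Scheme.etalePrecoverage S) F) := by
  obtain ⟨hl, hs⟩ := lifts_seps_of_lp hF
  have hsh : Presheaf.IsSheaf (QuotSh.J Scheme.etalePrecoverage S) (sheafify (QuotSh.J Scheme.etalePrecoverage S) F) :=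
    ((presheafToSheaf (QuotSh.J Scheme.etalePrecoverage S) (Type (u + 1))).obj F).property
  have w : toSheafify (QuotSh.J Scheme.etalePrecoverage S) F ≫ toOne (sheafify (QuotSh.J Scheme.etalePrecoverage S) F) = toOne F ≫ 𝟙 (one S) := by
    ext T x
    exact one_subsingleton _ _
  exact lp_of_lifts_seps (lifts_sheafify _ _ _ _ w hsh isSheaf_one hl hs) (seps_sheafify _ _ _ _ w hsh hs)

end Groth.L09.LfpEt
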