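import Mathlib.RingTheory.Smooth.NoetherianDescent
import Groth.Agent.L09.SpLimit.EtModel

/-!
# Etale morphisms of affine schemes come from models over finite type `ℤ`-algebras
-/

universe u

open CategoryTheory CategoryTheory.Limits AlgebraicGeometry TensorProduct

set_option autoImplicit false
set_option linter.style.haveILetI false
set_option backward.isDefEq.respectTransparency false
set_option backward.isDefEq.respectTransparency.types false

noncomputable section

namespace Groth.L09.LfpEt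

open Groth.L09.SpLimit

theorem exists_et_model_spec {A B : CommRingCat.{u}} (χ : Spec B ⟶ Spec A) [Etale χ] :
    ∃ (Z V : Scheme.{u}) (v : V ⟶ Z) (t : Spec A ⟶ Z) (w : Spec B ⟶ V),
      IsAffine Z ∧ IsAffine V ∧ Etale v ∧
      LocallyOfFinitePresentation (specULiftZIsTerminal.from Z) ∧ IsPullback w χ v t := by
  classical
  obtain ⟨φ, rfl⟩ := Spec.map_surjective χ
  letI : Algebra (ULift.{u} ℤ) A := ((Int.castRingHom A).comp ULift.ringEquiv.toRingHom).toAlgebra
  letI : Algebra A B := φ.hom.toAlgebra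
  have hφ : φ.hom.Etale := (HasRingHomProperty.Spec_iff (P := @Etale)).1 inferInstance
  haveI : Algebra.Etale A B := hφ
  obtain ⟨A₀, B₀, _, _, hfg, het, ⟨e⟩⟩ :=
    Algebra.Etale.exists_subalgebra_fg (R := ULift.{u} ℤ) (A := (A : Type u)) (B := (B : Type u))
  haveI : Algebra.FiniteType (ULift.{u} ℤ) A₀ := (Subalgebra.fg_iff_finiteType A₀).1 hfg
  let v₀ : Spec (CommRingCat.of B₀) ⟶ Spec (CommRingCat.of A₀) := Spec.map (CommRingCat.ofHom (algebraMap A₀ B₀))
  let t₀ : Spec A ⟶ Spec (CommRingCat.of A₀) := Spec.map (CommRingCat.ofHom A₀.val.toRingHom)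
  have hv₁ : Etale v₀ := (HasRingHomProperty.Spec_iff (P := @Etale)).2 (RingHom.etale_algebraMap.2 het)
  let sqT := isPullback_SpecMap_of_isPushout _ _ _ _ (CommRingCat.isPushout_tensorProduct (↥A₀) (A : Type u) B₀)
  let ε : Spec (CommRingCat.of ((A : Type u) ⊗[↥A₀] B₀)) ≅ Spec B :=
    Scheme.Spec.mapIso (e.toRingEquiv.toCommRingCatIso).op
  refine ⟨_, _, v₀, t₀, ε.inv ≫ Spec.map (CommRingCat.ofHom (Algebra.TensorProduct.includeRight (R := A₀) (A := (A : Type u)) (B := B₀)).toRingHom),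
    inferInstance, inferInstance, hv₁, lfp_terminal_spec (CommRingCat.of A₀), ?_⟩
  refine sqT.flip.of_iso ε (Iso.refl _) (Iso.refl _) (Iso.refl _) (by simp) ?_ (by simp [v₀]) ?_
  · simp only [Iso.refl_hom, Category.comp_id, ε]
    show Spec.map _ = Spec.map _ ≫ Spec.map φ
    rw [← Spec.map_comp]
    congr 1
    ext a
    exact (e.commutes a).symm
  · simp [t₀]
    rfl

theorem exists_et_model {T U : Scheme.{u}} [IsAffine T] [IsAffine U] (χ : U ⟶ T) [Etale χ] :
    ∃ (Z V : Scheme.{u}) (v : V ⟶ Z) (t : T ⟶ Z) (w : U ⟶ V),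
      IsAffine Z ∧ IsAffine V ∧ Etale v ∧
      LocallyOfFinitePresentation (specULiftZIsTerminal.from Z) ∧ IsPullback w χ v t := by
  obtain ⟨Z, V, v, t, w, h₁, h₂, h₃, h₅, sq⟩ := exists_et_model_spec (U.isoSpec.inv ≫ χ ≫ T.isoSpec.hom)
  refine ⟨Z, V, v, T.isoSpec.hom ≫ t, U.isoSpec.hom ≫ w, h₁, h₂, h₃, h₅, ?_⟩
  exact sq.of_iso U.isoSpec.symm (Iso.refl _) T.isoSpec.symm (Iso.refl _) (by simp) (by simp) (by simp) (by simp)

end Groth.L09.LfpEt
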